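import Groth.Prelude.Def_DRing2
import Mathlib.Algebra.Homology.Homotopy
import Mathlib.RingTheory.Finiteness.Projective
import Mathlib.RingTheory.Finiteness.Prod

/-! Surgery on complexes of projective modules. -/

set_option autoImplicit false
set_option backward.isDefEq.respectTransparency false

universe u

open CategoryTheory CategoryTheory.Limits HomologicalComplex

namespace H9Size

variable {R : Type u} [CommRing R]

/-- A projective module generated by `n` elements. -/
def Gen (M : Type u) [AddCommGroup M] [Module R M] (n : ℕ) : Prop :=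
  Module.Projective R M ∧ ∃ g : (Fin n → R) →ₗ[R] M, Function.Surjective g

lemma Gen.of_retract {M M' : Type u} [AddCommGroup M] [Module R M] [AddCommGroup M'] [Module R M']
    {n : ℕ} (h : Gen (R := R) M n) (i : M' →ₗ[R] M) (p : M →ₗ[R] M') (hpi : ∀ x, p (i x) = x) :
    Gen (R := R) M' n := by
  obtain ⟨hp, g, hg⟩ := h
  have : LinearMap.id = p ∘ₗ i := LinearMap.ext fun x => (hpi x).symm
  refine ⟨Module.Projective.of_split i p this.symm, p ∘ₗ g, ?_⟩
  rw [LinearMap.coe_comp]
  exact Function.Surjective.comp (fun x => ⟨i x, hpi x⟩) hg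

lemma Gen.of_equiv {M M' : Type u} [AddCommGroup M] [Module R M] [AddCommGroup M'] [Module R M']
    {n : ℕ} (h : Gen (R := R) M n) (e : M ≃ₗ[R] M') : Gen (R := R) M' n :=
  h.of_retract e.symm.toLinearMap e.toLinearMap fun x => e.apply_symm_apply x

lemma gen_free (n : ℕ) : Gen (R := R) (Fin n → R) n :=
  ⟨inferInstance, LinearMap.id, Function.surjective_id⟩

lemma Gen.mono {M : Type u} [AddCommGroup M] [Module R M] {n m : ℕ} (h : Gen (R := R) M n)
    (hnm : n ≤ m) : Gen (R := R) M m := by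
  obtain ⟨hp, g, hg⟩ := h
  exact ⟨hp, g ∘ₗ LinearMap.funLeft R R (Fin.castLE hnm),
    hg.comp (LinearMap.funLeft_surjective_of_injective R R _ (Fin.castLE_injective hnm))⟩

lemma gen_of_subsingleton {M : Type u} [AddCommGroup M] [Module R M] [Subsingleton M] (n : ℕ) :
    Gen (R := R) M n :=
  ⟨inferInstance, 0, fun x => ⟨0, Subsingleton.elim _ _⟩⟩

lemma exists_gen (M : Type u) [AddCommGroup M] [Module R M] [Module.Finite R M]
    [Module.Projective R M] : ∃ n, Gen (R := R) M n := by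
  obtain ⟨n, g, hg⟩ := Module.Finite.exists_fin' R M
  exact ⟨n, inferInstance, g, hg⟩

lemma Gen.finite {M : Type u} [AddCommGroup M] [Module R M] {n : ℕ} (h : Gen (R := R) M n) :
    Module.Finite R M := by
  obtain ⟨-, g, hg⟩ := h
  exact Module.Finite.of_surjective g hg

lemma d_d_apply (E : DRing.Cx R) (i k l : ℤ) (x : E.X i) : E.d k l (E.d i k x) = 0 := by
  change (E.d i k ≫ E.d k l).hom x = 0
  rw [E.d_comp_d]
  rfl

section Sub

variable (X : ℤ → Type u) [∀ i, AddCommGroup (X i)] [∀ i, Module R (X i)]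
  (D : ∀ i k, X i →ₗ[R] X k) (S : ∀ i, Submodule R (X i))
  (hshape : ∀ i k, i + 1 ≠ k → D i k = 0) (hdd : ∀ i k l x, D k l (D i k x) = 0)
  (hS : ∀ i k, ∀ x ∈ S i, D i k x ∈ S k)

/-- A subcomplex given by submodules. -/
noncomputable def subCx : DRing.Cx R where
  X i := ModuleCat.of R (S i)
  d i k := ModuleCat.ofHom ((D i k ∘ₗ (S i).subtype).codRestrict (S k) fun x => hS i k x x.2)
  shape i k h := by
    ext x
    change D i k x.1 = 0
    rw [hshape i k h]
    rfl
  d_comp_d' i k l _ _ := by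
    ext x
    exact hdd i k l x.1

end Sub

variable (E : DRing.Cx R)

lemma nullHomotopicMap'_apply {F F' : DRing.Cx R}
    (h : ∀ i k : ℤ, (ComplexShape.up ℤ).Rel k i → (F.X i ⟶ F'.X k)) (i : ℤ) (x : F.X i) :
    (Homotopy.nullHomotopicMap' h).f i x =
      h (i + 1) i rfl (F.d i (i + 1) x) + F'.d (i - 1) i (h i (i - 1) (by simp) x) := by
  rw [Homotopy.nullHomotopicMap'_f (by simp : (ComplexShape.up ℤ).Rel (i - 1) i) (rfl :
    (ComplexShape.up ℤ).Rel i (i + 1))]
  rfl

section Lower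

variable {a a' : ℤ} (ha : a + 1 = a') (r : E.X a' →ₗ[R] E.X a)
  (hr : ∀ x, r (E.d a a' x) = x)

/-- The functional whose kernel is the reduced complex. -/
noncomputable def loW (i : ℤ) : E.X i →ₗ[R] E.X a :=
  if h : i = a then (E.XIsoOfEq h).hom.hom else
    if h' : i = a' then r ∘ₗ (E.XIsoOfEq h').hom.hom else 0

include ha hr in
lemma loW_stable (i k : ℤ) : ∀ x ∈ LinearMap.ker (loW E r i (a := a) (a' := a')),
    E.d i k x ∈ LinearMap.ker (loW E r k (a := a) (a' := a')) := by
  intro x hx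
  rw [LinearMap.mem_ker] at hx ⊢
  by_cases hik : i + 1 = k
  swap
  · rw [E.shape i k hik]; simp
  rcases eq_or_ne k a with rfl | hka
  · simp only [loW, dif_pos rfl, XIsoOfEq_rfl, Iso.refl_hom]
    change E.d i k x = 0
    rw [← hr (E.d i k x), d_d_apply, map_zero]
  rcases eq_or_ne k a' with rfl | hka'
  · have : i = a := by omega
    subst this
    simp only [loW, dif_pos rfl, XIsoOfEq_rfl, Iso.refl_hom] at hx
    change (x : E.X i) = 0 at hx
    rw [hx]; simp
  simp [loW, hka, hka']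

/-- The complex with the bottom term removed. -/
noncomputable def loCx : DRing.Cx R :=
  subCx (fun i => E.X i) (fun i k => (E.d i k).hom)
    (fun i => LinearMap.ker (loW E r i (a := a) (a' := a')))
    (fun i k h => by rw [E.shape i k h]; rfl) (d_d_apply E) (loW_stable E ha r hr)

/-- The homotopy. -/
noncomputable def loH (i k : ℤ) : E.X i ⟶ E.X k :=
  if h : i = a' ∧ k = a then
    (E.XIsoOfEq h.1).hom ≫ ModuleCat.ofHom r ≫ (E.XIsoOfEq h.2).inv else 0

/-- The idempotent. -/
noncomputable def loE : E ⟶ E :=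
  𝟙 E - Homotopy.nullHomotopicMap' fun i k _ => loH E r i k (a := a) (a' := a')

lemma loE_apply (i : ℤ) (x : E.X i) :
    (loE E r (a := a) (a' := a')).f i x =
      x - (loH E r (i + 1) i (a := a) (a' := a') (E.d i (i + 1) x) +
        E.d (i - 1) i (loH E r i (i - 1) (a := a) (a' := a') x)) := by
  have h1 : (loE E r (a := a) (a' := a')).f i x =
      x - (Homotopy.nullHomotopicMap' fun i k _ => loH E r i k (a := a) (a' := a')).f i x := rfl
  rw [h1, nullHomotopicMap'_apply]

include ha hr in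
lemma loE_mem (i : ℤ) (x : E.X i) :
    (loE E r (a := a) (a' := a')).f i x ∈ LinearMap.ker (loW E r i (a := a) (a' := a')) := by
  rw [LinearMap.mem_ker, loE_apply]
  rcases eq_or_ne i a with rfl | hia
  · subst ha
    have h1 : loH E r (i + 1) i = ModuleCat.ofHom r := by simp [loH]
    have h2 : loH E r i (i - 1) (a := i) (a' := i + 1) = 0 := by simp [loH]
    rw [h1, h2]
    simp [loW, hr]
  rcases eq_or_ne i a' with rfl | hia'
  · obtain rfl : a = i - 1 := by omega
    have h1 : loH E r (i + 1) i (a := i - 1) (a' := i) = 0 := by simp [loH]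
    have h2 : loH E r i (i - 1) (a := i - 1) (a' := i) = ModuleCat.ofHom r := by simp [loH]
    rw [h1, h2]
    simp [loW, hia, hr]
  simp [loW, hia, hia']

include ha in
lemma loE_fix (i : ℤ) (x : E.X i) (hx : loW E r i (a := a) (a' := a') x = 0) :
    (loE E r (a := a) (a' := a')).f i x = x := by
  rw [loE_apply]
  rcases eq_or_ne i a with rfl | hia
  · simp only [loW, dif_pos rfl, XIsoOfEq_rfl, Iso.refl_hom] at hx
    change (x : E.X i) = 0 at hx
    simp [hx]
  rcases eq_or_ne i a' with rfl | hia'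
  · obtain rfl : a = i - 1 := by omega
    simp only [loW, dif_neg hia, dif_pos rfl, XIsoOfEq_rfl, Iso.refl_hom] at hx
    change r x = 0 at hx
    have h1 : loH E r (i + 1) i (a := i - 1) (a' := i) = 0 := by simp [loH]
    have h2 : loH E r i (i - 1) (a := i - 1) (a' := i) = ModuleCat.ofHom r := by simp [loH]
    rw [h1, h2]
    simp [hx]
  have h1 : loH E r (i + 1) i (a := a) (a' := a') = 0 := by
    simp only [loH]; rw [dif_neg (by omega)]
  have h2 : loH E r i (i - 1) (a := a) (a' := a') = 0 := by simp [loH, hia']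
  rw [h1, h2]
  simp

include ha hr in
/-- Removing a split injective bottom differential. -/
theorem exists_lower :
    ∃ E' : DRing.Cx R, Nonempty (HomotopyEquiv E E') ∧ Subsingleton (E'.X a) ∧
      ∀ (i : ℤ) (n : ℕ), Gen (R := R) (E.X i) n → Gen (R := R) (E'.X i) n := by
  let ι : loCx E ha r hr ⟶ E :=
    { f := fun i => ModuleCat.ofHom (LinearMap.ker (loW E r i (a := a) (a' := a'))).subtype }
  let π : E ⟶ loCx E ha r hr :=
    { f := fun i => ModuleCat.ofHom (((loE E r (a := a) (a' := a')).f i).hom.codRestrict _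
        (loE_mem E ha r hr i))
      comm' := fun i k _ => by
        ext x
        apply Subtype.ext
        have := congrArg (fun f => f.hom x) ((loE E r (a := a) (a' := a')).comm i k)
        exact this }
  have h1 : ι ≫ π = 𝟙 _ := by
    ext i x
    apply Subtype.ext
    exact loE_fix E ha r i x.1 x.2
  have h2 : π ≫ ι = loE E r (a := a) (a' := a') := by
    ext i x
    rfl
  refine ⟨loCx E ha r hr, ⟨⟨π, ι, ?_, Homotopy.ofEq h1⟩⟩, ⟨fun x y => ?_⟩, fun i n hn => ?_⟩
  · refine (Homotopy.ofEq h2).trans ?_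
    refine (Homotopy.equivSubZero.symm ?_).symm
    refine (Homotopy.ofEq ?_).trans
      (Homotopy.nullHomotopy' fun i k _ => loH E r i k (a := a) (a' := a'))
    simp [loE]
  · apply Subtype.ext
    have hx := x.2
    have hy := y.2
    simp only [LinearMap.mem_ker, loW, dif_pos rfl, XIsoOfEq_rfl, Iso.refl_hom] at hx hy
    exact hx.trans hy.symm
  · exact hn.of_retract (LinearMap.ker (loW E r i (a := a) (a' := a'))).subtype
      (π.f i).hom fun x => Subtype.ext (loE_fix E ha r i x.1 x.2)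

end Lower

section Upper

variable {j : ℤ} {n : ℕ} (φ : (Fin n → R) →ₗ[R] E.X j)
  (σ₁ : E.X j →ₗ[R] E.X (j - 1)) (σ₂ : E.X j →ₗ[R] (Fin n → R))
  (hσ : ∀ x, E.d (j - 1) j (σ₁ x) + φ (σ₂ x) = x)

/-- The two degrees of the auxiliary disk. -/
abbrev Deg (j i : ℤ) : Type := PLift (i = j ∨ i + 1 = j)

/-- The natural map to degree `j`. -/
noncomputable def upC (i : ℤ) : E.X i →ₗ[R] E.X j :=
  if h : i = j then (E.XIsoOfEq h).hom.hom else (E.d i j).hom

lemma upC_self (x : E.X j) : upC E j x = x := by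
  simp [upC]

lemma upC_ne {i : ℤ} (h : i ≠ j) (x : E.X i) : upC E i (j := j) x = E.d i j x := by
  simp [upC, h]

variable (j n) in
/-- Differential of the enlarged complex. -/
noncomputable def upD (i k : ℤ) : (E.X i × (Deg j i → (Fin n → R))) →ₗ[R]
    (E.X k × (Deg j k → (Fin n → R))) :=
  ((E.d i k).hom ∘ₗ LinearMap.fst R _ _).prod
    (LinearMap.pi fun _ => if h : i + 1 = j ∧ k = j then
      LinearMap.proj (⟨Or.inr h.1⟩ : Deg j i) ∘ₗ LinearMap.snd R _ _ else 0)

lemma upD_fst (i k : ℤ) (x : E.X i × (Deg j i → (Fin n → R))) :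
    (upD E j n i k x).1 = E.d i k x.1 := rfl

lemma upD_snd_pos (i k : ℤ) (x : E.X i × (Deg j i → (Fin n → R))) (h : i + 1 = j) (hk : k = j)
    (p : Deg j k) : (upD E j n i k x).2 p = x.2 ⟨Or.inr h⟩ := by
  simp [upD, h, hk]

lemma upD_snd_neg (i k : ℤ) (x : E.X i × (Deg j i → (Fin n → R))) (h : ¬ (i + 1 = j ∧ k = j))
    (p : Deg j k) : (upD E j n i k x).2 p = 0 := by
  simp [upD, h]

/-- Defining equations of the modified complex. -/
noncomputable def upS (i : ℤ) : Submodule R (E.X i × (Deg j i → (Fin n → R))) :=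
  ⨅ p : Deg j i, LinearMap.ker
    (upC E i (j := j) ∘ₗ LinearMap.fst R _ _ - φ ∘ₗ LinearMap.proj p ∘ₗ LinearMap.snd R _ _)

lemma mem_upS {i : ℤ} {x : E.X i × (Deg j i → (Fin n → R))} :
    x ∈ upS E φ i ↔ ∀ p : Deg j i, upC E i (j := j) x.1 = φ (x.2 p) := by
  simp [upS, sub_eq_zero]

lemma upS_stable (i k : ℤ) : ∀ x ∈ upS E φ i, upD E j n i k x ∈ upS E φ k := by
  intro x hx
  rw [mem_upS] at hx ⊢
  intro p
  rw [upD_fst]
  by_cases hik : i + 1 = k
  swap
  · have h' : ¬ (i + 1 = j ∧ k = j) := fun h => hik (h.1.trans h.2.symm)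
    rw [E.shape i k hik, upD_snd_neg E i k x h' p]
    simp
  rcases eq_or_ne k j with rfl | hkj
  · rw [upC_self, upD_snd_pos E i k x hik rfl p, ← hx ⟨Or.inr hik⟩,
      upC_ne E (by omega)]
  · rw [upC_ne E hkj, d_d_apply, upD_snd_neg E i k x (by simp [hkj]) p, map_zero]

/-- The modified complex. -/
noncomputable def upCx : DRing.Cx R :=
  subCx (fun i => E.X i × (Deg j i → (Fin n → R))) (upD E j n) (upS E φ)
    (fun i k h => by
      refine LinearMap.ext fun x => Prod.ext ?_ (funext fun p => ?_)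
      · rw [upD_fst, E.shape i k h]; rfl
      · exact upD_snd_neg E i k x (fun h' => h (h'.1.trans h'.2.symm)) p)
    (fun i k l x => by
      refine Prod.ext ?_ (funext fun p => ?_)
      · rw [upD_fst, upD_fst, d_d_apply]; rfl
      · by_cases h : k + 1 = j ∧ l = j
        · rw [upD_snd_pos E k l _ h.1 h.2 p, upD_snd_neg E i k x (by omega)]
          rfl
        · rw [upD_snd_neg E k l _ h p]; rfl)
    (upS_stable E φ)

/-- The homotopy. -/
noncomputable def upH (i k : ℤ) : E.X i ⟶ E.X k :=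
  if h : i = j ∧ k = j - 1 then
    (E.XIsoOfEq h.1).hom ≫ ModuleCat.ofHom σ₁ ≫ (E.XIsoOfEq h.2).inv else 0

lemma upH_self : upH E σ₁ j (j - 1) = ModuleCat.ofHom σ₁ := by
  simp [upH]

lemma upH_ne {i k : ℤ} (h : ¬ (i = j ∧ k = j - 1)) : upH E σ₁ i k = 0 := by
  simp [upH, h]

/-- The endomorphism homotopic to the identity. -/
noncomputable def upE : E ⟶ E :=
  𝟙 E - Homotopy.nullHomotopicMap' fun i k _ => upH E σ₁ i k

lemma upE_apply (i : ℤ) (x : E.X i) :
    (upE E σ₁).f i x =
      x - (upH E σ₁ (i + 1) i (E.d i (i + 1) x) + E.d (i - 1) i (upH E σ₁ i (i - 1) x)) := by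
  have h1 : (upE E σ₁).f i x =
      x - (Homotopy.nullHomotopicMap' fun i k _ => upH E σ₁ i k).f i x := rfl
  rw [h1, nullHomotopicMap'_apply]

include hσ in
lemma upC_upE (i : ℤ) (x : E.X i) (p : Deg j i) :
    upC E i (j := j) ((upE E σ₁).f i x) = φ (σ₂ (upC E i (j := j) x)) := by
  rw [upE_apply]
  rcases p.down with rfl | hi
  · rw [upH_ne E σ₁ (by omega : ¬ (i + 1 = i ∧ i = i - 1)), upH_self]
    simp only [upC_self]
    simp only [upC_self, ModuleCat.hom_zero, LinearMap.zero_apply, ModuleCat.hom_ofHom, zero_add]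
    rw [sub_eq_iff_eq_add, add_comm]
    exact (hσ x).symm
  · obtain rfl : j = i + 1 := hi.symm
    have e : upH E σ₁ i (i - 1) = 0 := upH_ne E σ₁ (by omega)
    rw [e]
    have hne : i ≠ i + 1 := by omega
    rw [upC_ne E hne, upC_ne E hne]
    have h := hσ (E.d i (i + 1) x)
    have key : ∀ (m : ℤ) (hm : m = i) (s : E.X (i + 1) →ₗ[R] E.X m)
        (_ : ∀ y, E.d m (i + 1) (s y) + φ (σ₂ y) = y),
        E.d i (i + 1) ((ModuleCat.ofHom s ≫ (E.XIsoOfEq hm).hom) (E.d i (i + 1) x)) =
          E.d i (i + 1) x - φ (σ₂ (E.d i (i + 1) x)) := by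
      intro m hm s hs
      subst hm
      simp only [XIsoOfEq_rfl, Iso.refl_hom, Category.comp_id]
      rw [eq_sub_iff_add_eq]
      exact hs _
    have hH : upH E σ₁ (i + 1) i =
        ModuleCat.ofHom σ₁ ≫ (E.XIsoOfEq (by omega : i + 1 - 1 = i)).hom := by
      unfold upH
      rw [dif_pos (⟨rfl, by omega⟩ : i + 1 = i + 1 ∧ i = i + 1 - 1)]
      simp [HomologicalComplex.XIsoOfEq]
    simp only [ModuleCat.hom_zero, LinearMap.zero_apply, map_zero, add_zero, map_sub, hH]
    rw [key _ (by omega) σ₁ hσ]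
    abel

/-- Section of the projection. -/
noncomputable def upQ (i : ℤ) : E.X i →ₗ[R] upS E φ i :=
  LinearMap.codRestrict _ (((upE E σ₁).f i).hom.prod
    (LinearMap.pi fun _ => σ₂ ∘ₗ upC E i (j := j))) fun x => by
      rw [mem_upS]
      intro p
      exact upC_upE E φ σ₁ σ₂ hσ i x p

lemma upH'_mem (hσ : ∀ x, E.d (j - 1) j (σ₁ x) + φ (σ₂ x) = x) (i k : ℤ) (hik : k + 1 = i)
    (z : E.X i × (Deg j i → (Fin n → R))) (hz : z ∈ upS E φ i) :
    ((upH E σ₁ i k z.1, fun _ => if h : i = j then z.2 ⟨Or.inl h⟩ - σ₂ (upC E i (j := j) z.1)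
      else 0) : E.X k × (Deg j k → (Fin n → R))) ∈ upS E φ k := by
  rw [mem_upS] at hz ⊢
  intro p
  dsimp only
  rcases eq_or_ne i j with rfl | hij
  · obtain rfl : k = i - 1 := by omega
    have := hz ⟨Or.inl rfl⟩
    rw [upC_self] at this
    rw [dif_pos rfl, upH_self, upC_ne E (by omega), upC_self, map_sub, ← this, eq_sub_iff_add_eq]
    exact hσ _
  · have e : upH E σ₁ i k = 0 := upH_ne E σ₁ (by simp [hij])
    simp [hij, e]

/-- The auxiliary component of the homotopy. -/
noncomputable def upHA (i : ℤ) : (E.X i × (Deg j i → (Fin n → R))) →ₗ[R] (Fin n → R) :=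
  if h : i = j then (LinearMap.proj (⟨Or.inl h⟩ : Deg j i) :
      (Deg j i → (Fin n → R)) →ₗ[R] (Fin n → R)) ∘ₗ LinearMap.snd R (E.X i) _ -
    σ₂ ∘ₗ upC E i (j := j) ∘ₗ LinearMap.fst R _ _ else 0

lemma upHA_apply (i : ℤ) (z : E.X i × (Deg j i → (Fin n → R))) :
    upHA E σ₂ i z =
      if h : i = j then z.2 ⟨Or.inl h⟩ - σ₂ (upC E i (j := j) z.1) else 0 := by
  unfold upHA
  split_ifs with h <;> rfl

/-- The homotopy on the modified complex. -/
noncomputable def upH' (i k : ℤ) (hik : k + 1 = i) : upS E φ i →ₗ[R] upS E φ k :=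
  LinearMap.codRestrict _
    ((((upH E σ₁ i k).hom ∘ₗ LinearMap.fst R _ _).prod (LinearMap.pi fun _ : Deg j k =>
      upHA E σ₂ i)) ∘ₗ (upS E φ i).subtype)
    fun x => by
      have h := upH'_mem E φ σ₁ σ₂ hσ i k hik x.1 x.2
      rw [← upHA_apply E σ₂ i x.1] at h
      exact h

include hσ in
theorem upper_aux :
    Nonempty (HomotopyEquiv E (upCx E φ)) := by
  let pr : upCx E φ ⟶ E :=
    { f := fun i => ModuleCat.ofHom (LinearMap.fst R _ _ ∘ₗ (upS E φ i).subtype) }
  let q : E ⟶ upCx E φ :=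
    { f := fun i => ModuleCat.ofHom (upQ E φ σ₁ σ₂ hσ i)
      comm' := fun i k hik => by
        ext x
        apply Subtype.ext
        refine Prod.ext ?_ (funext fun p => ?_)
        · have := congrArg (fun f => f.hom x) ((upE E σ₁).comm i k)
          exact this
        · change (upD E j n i k (upQ E φ σ₁ σ₂ hσ i x).1).2 p =
            σ₂ (upC E k (j := j) (E.d i k x))
          rcases eq_or_ne k j with rfl | hkj
          · rw [upD_snd_pos E i k _ hik rfl p, upC_self]
            change σ₂ (upC E i (j := k) x) = _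
            rw [upC_ne E (by simp only [ComplexShape.up_Rel] at hik; omega)]
          · rw [upD_snd_neg E i k _ (by simp [hkj]) p, upC_ne E hkj, d_d_apply, map_zero] }
  let h' : ∀ i k : ℤ, (ComplexShape.up ℤ).Rel k i → ((upCx E φ).X i ⟶ (upCx E φ).X k) :=
    fun i k hik => ModuleCat.ofHom (upH' E φ σ₁ σ₂ hσ i k hik)
  have h2 : q ≫ pr = upE E σ₁ := by
    ext i x
    rfl
  have h1 : 𝟙 _ - pr ≫ q = Homotopy.nullHomotopicMap' h' := by
    ext i x
    apply Subtype.ext
    have hrhs := nullHomotopicMap'_apply h' i x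
    refine Eq.trans ?_ (congrArg Subtype.val hrhs).symm
    refine Prod.ext ?_ (funext fun p => ?_)
    · change x.1.1 - (upE E σ₁).f i x.1.1 =
        upH E σ₁ (i + 1) i (E.d i (i + 1) x.1.1) + E.d (i - 1) i (upH E σ₁ i (i - 1) x.1.1)
      rw [upE_apply]
      abel
    · change x.1.2 p - σ₂ (upC E i (j := j) x.1.1) =
        (upH' E φ σ₁ σ₂ hσ (i + 1) i rfl ((upCx E φ).d i (i + 1) x)).1.2 p +
          (upD E j n (i - 1) i (upH' E φ σ₁ σ₂ hσ i (i - 1) (by omega) x).1).2 p
      have hne : ¬ ((i = j) ∧ (i + 1 = j)) := by omega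
      rcases p.down with hi | hi
      · subst hi
        rw [upD_snd_pos E (i - 1) i _ (by omega) rfl p]
        change _ = upHA E σ₂ (i + 1) (upD E i n i (i + 1) x.1) + upHA E σ₂ i x.1
        rw [upHA_apply, upHA_apply, dif_neg (by omega), dif_pos rfl,
          Subsingleton.elim p ⟨Or.inl rfl⟩, zero_add]
      · subst hi
        rw [upD_snd_neg E (i - 1) i _ (by omega) p]
        have := upD_snd_pos E i (i + 1) x.1 rfl rfl (⟨Or.inl rfl⟩ : Deg (i + 1) (i + 1))
        change _ = upHA E σ₂ (i + 1) (upD E (i + 1) n i (i + 1) x.1) + 0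
        rw [upHA_apply, dif_pos rfl, upD_fst, add_zero, this, upC_self, upC_ne E (by omega),
          Subsingleton.elim p ⟨Or.inr rfl⟩]
  refine ⟨⟨q, pr, ?_, ?_⟩⟩
  · refine (Homotopy.ofEq h2).trans (Homotopy.equivSubZero.symm ?_).symm
    refine (Homotopy.ofEq ?_).trans (Homotopy.nullHomotopy' fun i k _ => upH E σ₁ i k)
    simp [upE]
  · refine (Homotopy.equivSubZero.symm ?_).symm
    exact (Homotopy.ofEq h1).trans (Homotopy.nullHomotopy' h')

include hσ in
lemma upper_gen_sub : ∀ {m : ℕ}, Gen (R := R) (E.X (j - 1)) m →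
    ∃ m', Gen (R := R) ((upCx E φ).X (j - 1)) m' := by
  intro m hm
  let inj : upS E φ (j - 1) →ₗ[R] E.X (j - 1) × (Deg j (j - 1) → (Fin n → R)) :=
    (upS E φ (j - 1)).subtype
  let p₀ : Deg j (j - 1) := ⟨Or.inr (by omega)⟩
  let w : E.X (j - 1) × (Deg j (j - 1) → (Fin n → R)) →ₗ[R] E.X j :=
    (E.d (j - 1) j).hom ∘ₗ LinearMap.fst R _ _ - φ ∘ₗ LinearMap.proj p₀ ∘ₗ LinearMap.snd R _ _
  let ρ : E.X (j - 1) × (Deg j (j - 1) → (Fin n → R)) →ₗ[R] upS E φ (j - 1) :=
    LinearMap.codRestrict _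
      ((LinearMap.fst R _ _ - σ₁ ∘ₗ w).prod
        (LinearMap.pi fun p => LinearMap.proj p ∘ₗ LinearMap.snd R _ _ + σ₂ ∘ₗ w)) fun z => by
      rw [mem_upS]
      intro p
      rw [upC_ne E (by omega), Subsingleton.elim p p₀]
      have h := eq_sub_of_add_eq (hσ (w z))
      have hw : E.d (j - 1) j z.1 - φ (z.2 p₀) = w z := rfl
      change E.d (j - 1) j (z.1 - σ₁ (w z)) = φ (z.2 p₀ + σ₂ (w z))
      rw [map_sub, map_add, h, ← hw]
      abel
  haveI : Module.Finite R (E.X (j - 1)) := hm.finite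
  haveI := hm.1
  haveI : Finite (Deg j (j - 1)) := Finite.of_subsingleton
  letI : Fintype (Deg j (j - 1)) := Fintype.ofFinite _
  haveI : Module.Finite R (Deg j (j - 1) → (Fin n → R)) :=
    Module.Finite.pi (R := R) (M := fun _ : Deg j (j - 1) => Fin n → R)
  haveI : Module.Projective R (Deg j (j - 1) → (Fin n → R)) :=
    Module.Projective.of_free
  obtain ⟨m', hm'⟩ := exists_gen (R := R) (E.X (j - 1) × (Deg j (j - 1) → (Fin n → R)))
  refine ⟨m', hm'.of_retract inj ρ fun x => Subtype.ext ?_⟩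
  have hw : w x.1 = 0 := by
    have := (mem_upS E φ).1 x.2 p₀
    rw [upC_ne E (by omega)] at this
    simp [w, this]
  change ((x.1.1 - σ₁ (w x.1), fun p => x.1.2 p + σ₂ (w x.1)) :
    E.X (j - 1) × (Deg j (j - 1) → (Fin n → R))) = x.1
  simp [hw]

/-- Replacing the degree `j` term by a free module of rank `n` surjecting onto the cokernel. -/
theorem exists_upper (hproj : Module.Projective R (E.X j))
    (hspan : LinearMap.range φ ⊔ LinearMap.range (E.d (j - 1) j).hom = ⊤) :
    ∃ E' : DRing.Cx R, Nonempty (HomotopyEquiv E E') ∧ Gen (R := R) (E'.X j) n ∧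
      (∀ m, Gen (R := R) (E.X (j - 1)) m → ∃ m', Gen (R := R) (E'.X (j - 1)) m') ∧
      ∀ i, i ≠ j → i ≠ j - 1 → ∀ m, Gen (R := R) (E.X i) m → Gen (R := R) (E'.X i) m := by
  haveI := hproj
  have hsurj : Function.Surjective ((E.d (j - 1) j).hom.coprod φ) := by
    rw [← LinearMap.range_eq_top, LinearMap.range_coprod, sup_comm]
    exact hspan
  obtain ⟨σ, hσ⟩ := Module.projective_lifting_property _ LinearMap.id hsurj
  have hσ' : ∀ x, E.d (j - 1) j ((LinearMap.fst R _ _ ∘ₗ σ) x) + φ ((LinearMap.snd R _ _ ∘ₗ σ) x) = x :=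
    fun x => LinearMap.congr_fun hσ x
  refine ⟨upCx E φ, upper_aux E φ _ _ hσ', ?_, fun m => upper_gen_sub E φ _ _ hσ' (m := m), ?_⟩
  · let p₀ : Deg j j := ⟨Or.inl rfl⟩
    refine (gen_free n).of_retract (LinearMap.proj p₀ ∘ₗ LinearMap.snd R _ _ ∘ₗ (upS E φ j).subtype)
      ((φ.prod (LinearMap.pi fun _ => LinearMap.id)).codRestrict (upS E φ j) fun g => by
        rw [mem_upS]; intro p; simp [upC_self]) fun x => Subtype.ext ?_
    have := (mem_upS E φ).1 x.2 p₀
    rw [upC_self] at this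
    refine Prod.ext ?_ (funext fun p => ?_)
    · exact this.symm
    · rw [Subsingleton.elim p p₀]; rfl
  · intro i hi hi' m hm
    haveI : IsEmpty (Deg j i) := ⟨fun p => by rcases p.down with h | h <;> omega⟩
    refine hm.of_retract (LinearMap.fst R _ _ ∘ₗ (upS E φ i).subtype)
      ((LinearMap.id.prod 0).codRestrict (upS E φ i) fun g => by
        rw [mem_upS]; exact fun p => isEmptyElim p) fun x => Subtype.ext ?_
    exact Prod.ext rfl (funext fun p => isEmptyElim p)

end Upper

end H9Size
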