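import Groth.Agent.H9Size.Strata
import Groth.Agent.H9Size.Surgery
import Groth.Agent.H9Misc.DRingProjAmp
import Mathlib.Algebra.Homology.DerivedCategory.KProjective
import Mathlib.RingTheory.Flat.EquationalCriterion
import Mathlib.LinearAlgebra.TensorProduct.RightExactness

/-! A complex locally of size `N` is globally of bounded size. -/

set_option autoImplicit false
set_option backward.isDefEq.respectTransparency false

universe u

open CategoryTheory CategoryTheory.Limits HomologicalComplex TensorProduct AlgebraicGeometry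

namespace H9Size

open W4c5algebraiztannaka

attribute [local instance] HasDerivedCategory.standard

section DToHomotopy

variable {S : Type u} [CommRing S]

/-- Isomorphisms in `D(S)` of K-projective complexes come from homotopy equivalences. -/
lemma homotopyEquiv_of_toD_iso {P Q : DRing.Cx S} [P.IsKProjective] [Q.IsKProjective]
    (e : DRing.toD P ≅ DRing.toD Q) : Nonempty (HomotopyEquiv P Q) := by
  let qP := (DerivedCategory.quotientCompQhIso (ModuleCat.{u} S)).app P
  let qQ := (DerivedCategory.quotientCompQhIso (ModuleCat.{u} S)).app Q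
  obtain ⟨f, hf⟩ := (CochainComplex.IsKProjective.Qh_map_bijective P _).surjective
    (qP.hom ≫ e.hom ≫ qQ.inv)
  obtain ⟨g, hg⟩ := (CochainComplex.IsKProjective.Qh_map_bijective Q _).surjective
    (qQ.hom ≫ e.inv ≫ qP.inv)
  refine ⟨HomotopyCategory.homotopyEquivOfIso ⟨f, g, ?_, ?_⟩⟩
  · apply (CochainComplex.IsKProjective.Qh_map_bijective P _).injective
    rw [Functor.map_comp, hf, hg]
    simp
  · apply (CochainComplex.IsKProjective.Qh_map_bijective Q _).injective
    rw [Functor.map_comp, hf, hg]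
    simp

end DToHomotopy

variable {R B : Type u} [CommRing R] [CommRing B]

/-- The homotopy theoretic form of being locally of size at most `N`. -/
def LocH (φ : R →+* B) (E : DRing.Cx R) (N : ℕ) : Prop :=
  ∃ P : DRing.Cx B, TermsOfSize P N ∧ Nonempty (HomotopyEquiv ((bcCx φ).obj E) P)

lemma LocH.of_equiv {φ : R →+* B} {E E' : DRing.Cx R} {N : ℕ} (h : LocH φ E N)
    (e : HomotopyEquiv E E') : LocH φ E' N := by
  obtain ⟨P, hP, ⟨e'⟩⟩ := h
  exact ⟨P, hP, ⟨((ModuleCat.extendScalars.{u, u, u} φ).mapHomotopyEquiv e).symm.trans e'⟩⟩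

lemma id_eq {S : Type u} [CommRing S] {P Q : DRing.Cx S} (e : HomotopyEquiv P Q) (i : ℤ)
    (x : P.X i) :
    x = e.inv.f i (e.hom.f i x) - e.homotopyHomInvId.hom (i + 1) i (P.d i (i + 1) x) -
      P.d (i - 1) i (e.homotopyHomInvId.hom i (i - 1) x) := by
  have h := congrArg (fun f => f.hom x) (e.homotopyHomInvId.comm i)
  rw [dNext_eq _ (rfl : (ComplexShape.up ℤ).Rel i (i + 1)),
    prevD_eq _ (by simp : (ComplexShape.up ℤ).Rel (i - 1) i)] at h
  change e.inv.f i (e.hom.f i x) = e.homotopyHomInvId.hom (i + 1) i (P.d i (i + 1) x) +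
    P.d (i - 1) i (e.homotopyHomInvId.hom i (i - 1) x) + x at h
  rw [h]
  abel

lemma isZero_of_gen_zero {M : ModuleCat.{u} R} (h : Gen (R := R) M 0) : IsZero M := by
  obtain ⟨-, g, hg⟩ := h
  rw [ModuleCat.isZero_iff_subsingleton]
  exact hg.subsingleton

lemma gen_of_isZero {M : ModuleCat.{u} R} (h : IsZero M) (n : ℕ) : Gen (R := R) M n := by
  haveI := ModuleCat.subsingleton_of_isZero h
  exact gen_of_subsingleton n

lemma gen_cokernel {φ : R →+* B} {m : ℕ}
    (hc : IsNisCoverLen (Spec.map (CommRingCat.ofHom φ)) m) {E : DRing.Cx R} {N : ℕ}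
    (hL : LocH φ E N) (j : ℤ) (hfin : Module.Finite R (E.X j)) {c M : ℕ}
    (hM : Gen (R := R) (E.X (j + 1)) M) (hc' : N ≤ c ∨ (N : ℤ) < j) :
    ∃ ψ : (Fin (m * (c + M)) → R) →ₗ[R] E.X j,
      LinearMap.range ψ ⊔ LinearMap.range (E.d (j - 1) j).hom = ⊤ := by
  letI := φ.toAlgebra
  obtain ⟨P, ⟨hPz, hP⟩, ⟨e⟩⟩ := hL
  have hPc : ∃ g : (Fin c → B) →ₗ[B] P.X j, Function.Surjective g := by
    rcases hc' with h | h
    · obtain ⟨hp, g, hg⟩ := hP j
      exact (Gen.mono (R := B) ⟨hp, g, hg⟩ h).2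
    · exact (gen_of_isZero (hPz j (Or.inr h)) c).2
  obtain ⟨g, hg⟩ := hPc
  obtain ⟨-, g', hg'⟩ := hM
  let gi : Fin (c + M) → B ⊗[R] E.X j := Fin.append
    (fun i => (e.inv.f j).hom (g (Pi.single i 1)))
    (fun i => (e.homotopyHomInvId.hom (j + 1) j).hom
      ((1 : B) ⊗ₜ[R] g' (Pi.single i 1) : B ⊗[R] E.X (j + 1)))
  have hv : Submodule.span B (Set.range gi) ⊔
      LinearMap.range ((E.d (j - 1) j).hom.baseChange B) = ⊤ := by
    rw [eq_top_iff]
    rintro (x : B ⊗[R] E.X j) -
    have hx := id_eq e j x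
    rw [hx]
    refine sub_mem (sub_mem ?_ ?_) ?_
    · refine Submodule.mem_sup_left ?_
      obtain ⟨w, hw⟩ := hg ((e.hom.f j).hom x)
      change (e.inv.f j).hom ((e.hom.f j).hom x) ∈ _
      rw [← hw, pi_eq_sum_univ' w, map_sum, map_sum]
      refine Submodule.sum_mem _ fun i _ => ?_
      rw [map_smul, map_smul]
      exact Submodule.smul_mem _ _ (Submodule.subset_span ⟨Fin.castAdd M i, by simp [gi]⟩)
    · refine Submodule.mem_sup_left ?_
      have : ∀ y : B ⊗[R] E.X (j + 1),
          (e.homotopyHomInvId.hom (j + 1) j).hom y ∈ Submodule.span B (Set.range gi) := by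
        intro y
        induction y using TensorProduct.induction_on with
        | zero => erw [map_zero]; exact zero_mem _
        | tmul b z =>
          obtain ⟨w, rfl⟩ := hg' z
          have hb : (b ⊗ₜ[R] g' w : B ⊗[R] E.X (j + 1)) =
              ∑ i, (b * φ (w i)) • ((1 : B) ⊗ₜ[R] g' (Pi.single i 1)) := by
            conv_lhs => rw [pi_eq_sum_univ' w, map_sum, TensorProduct.tmul_sum]
            refine Finset.sum_congr rfl fun i _ => ?_
            rw [map_smul, TensorProduct.smul_tmul', smul_eq_mul, mul_one,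
              ← TensorProduct.smul_tmul]
            congr 1
            exact mul_comm _ _
          rw [hb]
          erw [map_sum]
          refine Submodule.sum_mem _ fun i _ => ?_
          erw [map_smul]
          exact Submodule.smul_mem _ _ (Submodule.subset_span ⟨Fin.natAdd c i, by simp [gi]⟩)
        | add y₁ y₂ h₁ h₂ => erw [map_add]; exact add_mem h₁ h₂
      exact this _
    · exact Submodule.mem_sup_right ⟨_, rfl⟩
  obtain ⟨x, hx⟩ := exists_generators (R := R) (B := B) hc (E.d (j - 1) j).hom gi hv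
  refine ⟨Fintype.linearCombination R x, ?_⟩
  rw [Fintype.range_linearCombination]
  exact hx

lemma exists_retraction {φ : R →+* B} {m : ℕ}
    (hc : IsNisCoverLen (Spec.map (CommRingCat.ofHom φ)) m) {E : DRing.Cx R} {N : ℕ}
    (hL : LocH φ E N) (a : ℤ) (ha : a < -(N : ℤ)) (hz : IsZero (E.X (a - 1)))
    (h1 : Module.Finite R (E.X a)) (h2 : Module.Projective R (E.X (a + 1)))
    (h3 : Module.Finite R (E.X (a + 1))) :
    ∃ r : E.X (a + 1) →ₗ[R] E.X a, ∀ x, r (E.d a (a + 1) x) = x := by
  letI := φ.toAlgebra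
  haveI : Module.FaithfullyFlat R B := faithfullyFlat_of_isNisCoverLen (R := R) (B := B) hc
  obtain ⟨P, ⟨hPz, hP⟩, ⟨e⟩⟩ := hL
  let d : E.X a →ₗ[R] E.X (a + 1) := (E.d a (a + 1)).hom
  let rB : B ⊗[R] E.X (a + 1) →ₗ[B] B ⊗[R] E.X a :=
    -(e.homotopyHomInvId.hom (a + 1) a).hom
  have hrB : ∀ x : B ⊗[R] E.X a, rB (d.baseChange B x) = x := by
    intro x
    have hx := id_eq e a x
    haveI : Subsingleton (E.X (a - 1)) := ModuleCat.subsingleton_of_isZero hz
    haveI : Subsingleton (P.X a) := ModuleCat.subsingleton_of_isZero (hPz a (Or.inl ha))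
    have h0 : e.hom.f a x = 0 := Subsingleton.elim _ _
    have h0' : (e.homotopyHomInvId.hom a (a - 1)).hom x = 0 :=
      (inferInstance : Subsingleton (B ⊗[R] E.X (a - 1))).elim _ _
    rw [h0, map_zero] at hx
    erw [h0', map_zero, sub_zero, zero_sub] at hx
    exact hx.symm
  have hdinj : Function.Injective d := by
    intro x y hxy
    apply Module.FaithfullyFlat.tensorProduct_mk_injective (A := R) (B := B) (E.X a)
    change (1 : B) ⊗ₜ[R] x = (1 : B) ⊗ₜ[R] y
    rw [← hrB (1 ⊗ₜ x), ← hrB (1 ⊗ₜ y)]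
    congr 1
    simp [hxy]
  let C := E.X (a + 1) ⧸ LinearMap.range d
  let π : E.X (a + 1) →ₗ[R] C := (LinearMap.range d).mkQ
  have hπ : Function.Surjective π := Submodule.mkQ_surjective _
  haveI : Module.FinitePresentation R (E.X (a + 1)) := Module.finitePresentation_of_projective R _
  haveI : Module.FinitePresentation R C := Module.finitePresentation_of_surjective π hπ (by
    rw [show LinearMap.ker π = LinearMap.range d from Submodule.ker_mkQ _]
    rw [← Submodule.map_top d]
    exact Submodule.FG.map d Module.Finite.fg_top)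
  have hexact : Function.Exact d π := LinearMap.exact_map_mkQ_range d
  have hex : Function.Exact (d.baseChange B) (π.baseChange B) :=
    lTensor_exact B hexact hπ
  have hπB : Function.Surjective (π.baseChange B) := LinearMap.lTensor_surjective B hπ
  let p : B ⊗[R] E.X (a + 1) →ₗ[B] B ⊗[R] E.X (a + 1) :=
    LinearMap.id - d.baseChange B ∘ₗ rB
  have hp : LinearMap.ker (π.baseChange B) ≤ LinearMap.ker p := by
    intro z hz'
    obtain ⟨w, rfl⟩ := (hex z).1 hz'
    simp [p, hrB]
  let eq := LinearMap.quotKerEquivOfSurjective _ hπB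
  let s : B ⊗[R] C →ₗ[B] B ⊗[R] E.X (a + 1) :=
    (LinearMap.ker (π.baseChange B)).liftQ p hp ∘ₗ eq.symm.toLinearMap
  have hs : π.baseChange B ∘ₗ s = LinearMap.id := by
    refine LinearMap.ext fun z => ?_
    obtain ⟨w, rfl⟩ := hπB z
    have : eq.symm ((π.baseChange B) w) = Submodule.Quotient.mk w := by
      rw [LinearEquiv.symm_apply_eq]
      rfl
    simp only [s, LinearMap.coe_comp, LinearEquiv.coe_coe, Function.comp_apply, this,
      Submodule.liftQ_apply, LinearMap.id_apply]
    simp [p, (hex _).2 ⟨rB w, rfl⟩]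
  haveI : Module.Projective B (B ⊗[R] E.X (a + 1)) := inferInstance
  haveI : Module.Projective B (B ⊗[R] C) := Module.Projective.of_split s (π.baseChange B) hs
  haveI : Module.Flat R C := (Module.Flat.iff_flat_tensorProduct R C B).1 inferInstance
  haveI : Module.Projective R C := Module.Flat.projective_of_finitePresentation
  obtain ⟨s₀, hs₀⟩ := Module.projective_lifting_property π LinearMap.id hπ
  let q : E.X (a + 1) →ₗ[R] LinearMap.range d :=
    (LinearMap.id - s₀ ∘ₗ π).codRestrict _ fun x => by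
      refine (Submodule.Quotient.mk_eq_zero _).1 ?_
      change π (x - s₀ (π x)) = 0
      have h := LinearMap.congr_fun hs₀ (π x)
      rw [map_sub, show π (s₀ (π x)) = π x from h, sub_self]
  refine ⟨(LinearEquiv.ofInjective d hdinj).symm.toLinearMap ∘ₗ q, fun x => ?_⟩
  apply (LinearEquiv.ofInjective d hdinj).injective
  rw [LinearMap.coe_comp, LinearEquiv.coe_coe, Function.comp_apply, LinearEquiv.apply_symm_apply]
  apply Subtype.ext
  change d x - s₀ (π (d x)) = d x
  rw [hexact.apply_apply_eq_zero, map_zero, sub_zero]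

/-- The bounds for the number of generators. -/
def bdSeq (N : ℕ) : ℕ → ℕ
  | 0 => 0
  | t + 1 => N * (N + bdSeq N t) + bdSeq N t

lemma bdSeq_mono (N : ℕ) : Monotone (bdSeq N) :=
  monotone_nat_of_le_succ fun t => by
    show bdSeq N t ≤ N * (N + bdSeq N t) + bdSeq N t
    omega

/-- The bound in degree `i`. -/
def bd (N : ℕ) (i : ℤ) : ℕ := if (N : ℤ) < i then 0 else bdSeq N ((N + 1 - i).toNat)

theorem main {φ : R →+* B} {N : ℕ} (hc : IsNisCoverLen (Spec.map (CommRingCat.ofHom φ)) N)
    (E : DRing.Cx R) (a b : ℤ) (hab : DRing.VanishesOutside E a b)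
    (hE : DRing.TermwiseFiniteProjective E) (hL : LocH φ E N) :
    ∃ P : DRing.Cx R, TermsOfSize P (bdSeq N (2 * N + 1) + N) ∧ Nonempty (HomotopyEquiv E P) := by
  let a' := min a (-(N : ℤ) - 1)
  let b' := max b N
  have upper : ∀ k : ℕ, (k : ℤ) ≤ b' + N + 1 → ∃ E' : DRing.Cx R, Nonempty (HomotopyEquiv E E') ∧
      (∀ i, ∃ n, Gen (R := R) (E'.X i) n) ∧ DRing.VanishesOutside E' a' b' ∧
      ∀ i, b' - k < i → Gen (R := R) (E'.X i) (bd N i) := by
    intro k
    induction k with
    | zero =>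
      intro _
      have hz : DRing.VanishesOutside E a' b' := fun i hi => hab i (by
        have h1 : a' ≤ a := min_le_left _ _
        have h2 : b ≤ b' := le_max_left _ _
        omega)
      refine ⟨E, ⟨HomotopyEquiv.refl E⟩, fun i => ?_, hz, fun i hi => gen_of_isZero (hz i (by
        exact Or.inr (by simpa using hi))) _⟩
      haveI := (hE i).1
      haveI := (hE i).2
      exact exists_gen _
    | succ k ih =>
      intro hk
      obtain ⟨E₁, ⟨e₁⟩, hgen, hz, hbd⟩ := ih (by omega)
      obtain ⟨j, hj⟩ : ∃ j, j = b' - (k : ℤ) := ⟨_, rfl⟩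
      let c : ℕ := if (N : ℤ) < j then 0 else N
      obtain ⟨n, hn⟩ := hgen j
      obtain ⟨ψ, hψ⟩ := gen_cokernel hc (hL.of_equiv e₁) j hn.finite (c := c)
        (hbd (j + 1) (by omega)) (by by_cases h : (N : ℤ) < j <;> simp [c, h]; try omega)
      obtain ⟨E₂, ⟨e₂⟩, g1, g2, g3⟩ := exists_upper E₁ ψ hn.1 hψ
      have hle : N * (c + bd N (j + 1)) ≤ bd N j := by
        by_cases h : (N : ℤ) < j
        · simp [c, bd, h, (by omega : (N : ℤ) < j + 1)]
        · simp only [c, h, if_false]
          have e : ((N : ℤ) + 1 - j).toNat = ((N : ℤ) - j).toNat + 1 := by omega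
          simp only [bd, h, if_false, e, bdSeq]
          split_ifs with h'
          · have : bdSeq N ((N : ℤ) - j).toNat = 0 := by
              rw [show ((N : ℤ) - j).toNat = 0 by omega]; rfl
            simp [this]
          · rw [show ((N : ℤ) + 1 - (j + 1)).toNat = ((N : ℤ) - j).toNat by omega]
            omega
      refine ⟨E₂, ⟨e₁.trans e₂⟩, fun i => ?_, ?_, fun i hi => ?_⟩
      · rcases eq_or_ne i j with rfl | hi
        · exact ⟨_, g1⟩
        rcases eq_or_ne i (j - 1) with rfl | hi'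
        · obtain ⟨m, hm⟩ := hgen (j - 1)
          exact g2 m hm
        obtain ⟨m, hm⟩ := hgen i
        exact ⟨m, g3 i hi hi' m hm⟩
      · intro i hi
        have h2 : a' ≤ -(N : ℤ) - 1 := min_le_right _ _
        exact isZero_of_gen_zero (g3 i (by omega) (by omega) 0 (gen_of_isZero (hz i hi) 0))
      · rcases eq_or_ne i j with rfl | hij
        · exact g1.mono hle
        · exact g3 i hij (by omega) _ (hbd i (by omega))
  have hb' : (N : ℤ) ≤ b' := le_max_right _ _
  obtain ⟨E₁, ⟨e₁⟩, hgen, hz, hbd⟩ := upper (b' + N + 1).toNat (by omega)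
  have hbd' : ∀ i, -(N : ℤ) ≤ i → Gen (R := R) (E₁.X i) (bd N i) := fun i hi => hbd i (by omega)
  have lower : ∀ k : ℕ, a' + k ≤ -(N : ℤ) → ∃ E' : DRing.Cx R, Nonempty (HomotopyEquiv E E') ∧
      (∀ i, ∃ n, Gen (R := R) (E'.X i) n) ∧ (∀ i, i < a' + k → IsZero (E'.X i)) ∧
      ∀ i, -(N : ℤ) ≤ i → Gen (R := R) (E'.X i) (bd N i) := by
    intro k
    induction k with
    | zero => exact fun _ => ⟨E₁, ⟨e₁⟩, hgen, fun i hi => hz i (Or.inl (by omega)), hbd'⟩
    | succ k ih =>
      intro hk
      obtain ⟨E₂, ⟨e₂⟩, hgen₂, hz₂, hbd₂⟩ := ih (by omega)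
      obtain ⟨n, hn⟩ := hgen₂ (a' + k)
      obtain ⟨n', hn'⟩ := hgen₂ (a' + k + 1)
      obtain ⟨r, hr⟩ := exists_retraction hc (hL.of_equiv e₂) (a' + k) (by omega)
        (hz₂ _ (by omega)) hn.finite hn'.1 hn'.finite
      obtain ⟨E₃, ⟨e₃⟩, g1, g2⟩ := exists_lower E₂ rfl r hr
      refine ⟨E₃, ⟨e₂.trans e₃⟩, fun i => ⟨_, g2 i _ (hgen₂ i).choose_spec⟩, fun i hi => ?_,
        fun i hi => g2 i _ (hbd₂ i hi)⟩
      rcases eq_or_ne i (a' + k) with rfl | hne
      · rw [ModuleCat.isZero_iff_subsingleton]; exact g1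
      · exact isZero_of_gen_zero (g2 i 0 (gen_of_isZero (hz₂ i (by omega)) 0))
  have ha' : a' ≤ -(N : ℤ) - 1 := min_le_right _ _
  obtain ⟨P, ⟨eP⟩, -, hzP, hbdP⟩ := lower (-(N : ℤ) - a').toNat (by omega)
  refine ⟨P, ⟨fun i hi => ?_, fun i => ?_⟩, ⟨eP⟩⟩
  · rcases hi with hi | hi
    · exact hzP i (by omega)
    · refine isZero_of_gen_zero ?_
      have := hbdP i (by omega)
      rwa [bd, if_pos (by omega)] at this
  · have : Gen (R := R) (P.X i) (bdSeq N (2 * N + 1) + N) := by
      rcases lt_or_ge i (-(N : ℤ)) with h | h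
      · exact gen_of_isZero (hzP i (by omega)) _
      · refine (hbdP i h).mono (le_trans ?_ (Nat.le_add_right _ _))
        unfold bd
        split_ifs
        · exact Nat.zero_le _
        · exact bdSeq_mono N (by omega)
    exact this

theorem globSize_of_locSize (E : DRing.Cx R) (a b : ℤ) (hab : DRing.VanishesOutside E a b)
    (hE : DRing.TermwiseFiniteProjective E) {N : ℕ} (h : LocSize E N) :
    GlobSize R (DRing.toD E) (bdSeq N (2 * N + 1) + N) := by
  obtain ⟨B', _, φ, hc, P, hP, ⟨e⟩⟩ := h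
  letI := φ.toAlgebra
  haveI : ((bcCx φ).obj E).IsKProjective := Groth.Agent.H9Misc.DRingProjAmp.isKProjective (b := b)
    (fun i => by
      haveI := (hE i).2
      change Module.Projective B' (B' ⊗[R] E.X i)
      infer_instance)
    (fun i hi => (ModuleCat.extendScalars.{u, u, u} φ).map_isZero (hab i (Or.inr hi)))
  haveI : P.IsKProjective := Groth.Agent.H9Misc.DRingProjAmp.isKProjective (b := (N : ℤ))
    (fun i => (hP.2 i).1) (fun i hi => hP.1 i (Or.inr hi))
  obtain ⟨he⟩ := homotopyEquiv_of_toD_iso e.symm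
  obtain ⟨P', hP', ⟨e'⟩⟩ := main hc E a b hab hE ⟨P, hP, ⟨he⟩⟩
  haveI : IsIso (DerivedCategory.Q.map e'.hom) := by
    haveI : QuasiIso e'.hom := e'.quasiIso_hom
    infer_instance
  exact ⟨P', hP', ⟨(asIso (DerivedCategory.Q.map e'.hom)).symm⟩⟩

end H9Size
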