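import Groth.Prelude.Def_W4c5algebraiztannakaNis
import Mathlib.RingTheory.Flat.FaithfullyFlat.Algebra
import Mathlib.RingTheory.RingHom.FaithfullyFlat
import Mathlib.RingTheory.Nakayama
import Mathlib.RingTheory.Support
import Mathlib.AlgebraicGeometry.PullbackCarrier

/-! Bounding generators of a finite module along a Nisnevich cover of bounded length. -/

set_option autoImplicit false
set_option backward.isDefEq.respectTransparency false

universe u

open CategoryTheory CategoryTheory.Limits AlgebraicGeometry TensorProduct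

namespace H9Size

open W4c5algebraiztannaka

variable {R B : Type u} [CommRing R] [CommRing B] [Algebra R B]

/-- An affine reduced subscheme contained in a stratum lifts to the cover. -/
lemma exists_algHom {W : Set (Spec (CommRingCat.of R))}
    (hW : HasSectOver (Spec.map (CommRingCat.ofHom (algebraMap R B))) W)
    (K : Ideal R) (hK : K.IsRadical) (hKW : PrimeSpectrum.zeroLocus (K : Set R) ⊆ W) :
    Nonempty (B →ₐ[R] R ⧸ K) := by
  obtain ⟨T, g, s, hg, hrange, hs⟩ := hW
  let r := Spec.map (CommRingCat.ofHom (Ideal.Quotient.mk K))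
  haveI : IsReduced (Spec (CommRingCat.of (R ⧸ K))) := by
    haveI : _root_.IsReduced (R ⧸ K) := (Ideal.isRadical_iff_quotient_reduced K).1 hK
    infer_instance
  have hsurj : Function.Surjective (pullback.snd g r) := by
    intro z
    have : z ∈ Set.range (pullback.snd g r) := by
      rw [Scheme.Pullback.range_snd, Set.mem_preimage, hrange]
      apply hKW
      have hz : r z ∈ Set.range (PrimeSpectrum.comap (Ideal.Quotient.mk K)) := ⟨z, rfl⟩
      rw [range_comap_of_surjective _ _ Ideal.Quotient.mk_surjective, Ideal.mk_ker] at hz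
      exact hz
    exact this
  haveI : IsImmersion (pullback.snd g r) := inferInstance
  haveI : IsClosedImmersion (pullback.snd g r) := .of_isPreimmersion _ (by
    rw [Set.range_eq_univ.2 hsurj]
    exact isClosed_univ)
  haveI : Surjective (pullback.snd g r) := ⟨hsurj⟩
  haveI := isIso_of_isClosedImmersion_of_surjective (pullback.snd g r)
  let σ := inv (pullback.snd g r) ≫ pullback.fst g r ≫ s
  have hσ : σ ≫ Spec.map (CommRingCat.ofHom (algebraMap R B)) = r := by
    simp [σ, Category.assoc, hs, pullback.condition]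
  have h2 : CommRingCat.ofHom (algebraMap R B) ≫ Spec.preimage σ =
      CommRingCat.ofHom (Ideal.Quotient.mk K) := by
    apply Spec.map_injective
    rw [Spec.map_comp, Spec.map_preimage]
    exact hσ
  exact ⟨⟨(Spec.preimage σ).hom, fun x => congrArg (fun h => h.hom x) h2⟩⟩

/-- A module generated by `M` elements over the cover, modulo an ideal cutting out a subset of one
stratum, is generated by `M` elements. -/
lemma exists_lift {E₁ E₂ : Type u} [AddCommGroup E₁] [Module R E₁] [AddCommGroup E₂] [Module R E₂]
    (δ : E₁ →ₗ[R] E₂) {M : ℕ} (v : Fin M → B ⊗[R] E₂)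
    (hv : Submodule.span B (Set.range v) ⊔ LinearMap.range (δ.baseChange B) = ⊤)
    (K : Ideal R) (χ : B →ₐ[R] R ⧸ K) :
    ∃ y : Fin M → E₂,
      Submodule.span R (Set.range y) ⊔ LinearMap.range δ ⊔ K • ⊤ = ⊤ := by
  set N : Submodule R E₂ := LinearMap.range δ ⊔ K • ⊤ with hN
  let Q := E₂ ⧸ N
  have hKQ : Module.IsTorsionBySet R Q (K : Set R) := by
    intro x a
    obtain ⟨x, rfl⟩ := Submodule.Quotient.mk_surjective N x
    rw [← Submodule.Quotient.mk_smul, Submodule.Quotient.mk_eq_zero]
    exact Submodule.mem_sup_right (Submodule.smul_mem_smul a.2 trivial)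
  letI : Module (R ⧸ K) Q := hKQ.module
  haveI : IsScalarTower R (R ⧸ K) Q := hKQ.isScalarTower
  let μ : B →ₗ[R] E₂ →ₗ[R] Q := LinearMap.mk₂ R (fun b x => χ b • N.mkQ x)
    (fun b₁ b₂ x => by simp [add_smul]) (fun c b x => by simp [smul_assoc])
    (fun b x₁ x₂ => by simp [smul_add]) (fun c b x => by
      show χ b • N.mkQ (c • x) = c • (χ b • N.mkQ x)
      rw [map_smul, smul_comm])
  let Φ : B ⊗[R] E₂ →ₗ[R] Q := TensorProduct.lift μ
  have hΦs : ∀ (b : B) (z : B ⊗[R] E₂), Φ (b • z) = χ b • Φ z := by
    intro b z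
    induction z using TensorProduct.induction_on with
    | zero => simp
    | tmul c x => simp [Φ, μ, TensorProduct.smul_tmul', mul_smul]
    | add z₁ z₂ h₁ h₂ => simp [smul_add, h₁, h₂]
  choose y hy using fun i => N.mkQ_surjective (Φ (v i))
  refine ⟨y, ?_⟩
  have hsp : ∀ z ∈ Submodule.span B (Set.range v) ⊔ LinearMap.range (δ.baseChange B),
      Φ z ∈ (Submodule.span R (Set.range y)).map N.mkQ := by
    intro z hz
    obtain ⟨z₁, hz₁, z₂, ⟨w, rfl⟩, rfl⟩ := Submodule.mem_sup.1 hz
    clear hz
    rw [map_add]
    refine add_mem ?_ ?_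
    · induction hz₁ using Submodule.span_induction with
      | mem z h =>
        obtain ⟨i, rfl⟩ := h
        exact ⟨y i, Submodule.subset_span ⟨i, rfl⟩, hy i⟩
      | zero => simp
      | add z z' _ _ h h' => rw [map_add]; exact add_mem h h'
      | smul b z _ h =>
        rw [hΦs]
        obtain ⟨c, hc⟩ := Ideal.Quotient.mk_surjective (χ b)
        rw [← hc, ← Ideal.Quotient.algebraMap_eq, algebraMap_smul]
        exact Submodule.smul_mem _ _ h
    · have : Φ ((δ.baseChange B) w) = 0 := by
        induction w using TensorProduct.induction_on with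
        | zero => simp
        | tmul b x =>
          simp only [LinearMap.baseChange_tmul, Φ, TensorProduct.lift.tmul, μ, LinearMap.mk₂_apply]
          have : N.mkQ (δ x) = 0 :=
            (Submodule.Quotient.mk_eq_zero N).2 (Submodule.mem_sup_left ⟨x, rfl⟩)
          rw [this, smul_zero]
        | add w₁ w₂ h₁ h₂ => rw [map_add, map_add, h₁, h₂, add_zero]
      rw [this]
      exact zero_mem _
  rw [eq_top_iff]
  intro x _
  obtain ⟨x', hx', hxx⟩ := hsp (1 ⊗ₜ x) (by rw [hv]; trivial)
  have h1 : N.mkQ x' = N.mkQ x := by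
    rw [hxx]
    simp [Φ, μ]
  have h2 : x' - x ∈ N := (Submodule.Quotient.eq N).1 h1
  have h3 : x = x' - (x' - x) := by abel
  rw [h3, sup_assoc, ← hN]
  exact sub_mem (Submodule.mem_sup_left hx') (Submodule.mem_sup_right h2)

theorem exists_generators {E₁ E₂ : Type u} [AddCommGroup E₁] [Module R E₁] [AddCommGroup E₂]
    [Module R E₂] [Module.Finite R E₂]
    {m : ℕ} (hc : IsNisCoverLen (Spec.map (CommRingCat.ofHom (algebraMap R B))) m)
    (δ : E₁ →ₗ[R] E₂) {M : ℕ} (v : Fin M → B ⊗[R] E₂)
    (hv : Submodule.span B (Set.range v) ⊔ LinearMap.range (δ.baseChange B) = ⊤) :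
    ∃ x : Fin (m * M) → E₂, Submodule.span R (Set.range x) ⊔ LinearMap.range δ = ⊤ := by
  classical
  obtain ⟨Z, hZ0, hZm, hZmono, hZc, hsect⟩ := hc.flag
  have key : ∀ k : Fin (m + 1), ∃ x : Fin (k.val * M) → E₂, ∀ p : PrimeSpectrum R,
      p ∈ Z k → p ∉ Module.support R
        (E₂ ⧸ (Submodule.span R (Set.range x) ⊔ LinearMap.range δ)) := by
    intro k
    induction k using Fin.induction with
    | zero => exact ⟨fun i => 0, fun p hp => absurd hp (by rw [hZ0]; exact id)⟩
    | succ k ih =>
      obtain ⟨x, hx⟩ := ih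
      set N := Submodule.span R (Set.range x) ⊔ LinearMap.range δ with hN
      obtain ⟨J, hJ⟩ := (PrimeSpectrum.isClosed_iff_zeroLocus_ideal _).1 (hZc k.succ).1
      let K : Ideal R := (J ⊔ Module.annihilator R (E₂ ⧸ N)).radical
      have hKW : PrimeSpectrum.zeroLocus (K : Set R) ⊆ Z k.succ \ Z k.castSucc := by
        intro p hp
        have hp' : J ⊔ Module.annihilator R (E₂ ⧸ N) ≤ p.asIdeal :=
          Ideal.le_radical.trans hp
        refine ⟨by rw [hJ]; exact (le_sup_left.trans hp' : J ≤ p.asIdeal), fun hk => hx p hk ?_⟩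
        rw [Module.support_eq_zeroLocus]
        exact (le_sup_right.trans hp' : _ ≤ p.asIdeal)
      obtain ⟨χ⟩ := exists_algHom (hsect k) K (Ideal.radical_isRadical _) hKW
      obtain ⟨y, hy⟩ := exists_lift δ v hv K χ
      have hlen : (k.succ : Fin (m + 1)).val * M = k.castSucc.val * M + M := by
        simp [Nat.succ_mul]
      let x' : Fin ((k.succ : Fin (m + 1)).val * M) → E₂ := Fin.append x y ∘ Fin.cast hlen
      have hx' : Set.range x' = Set.range x ∪ Set.range y := by
        have hbij : Function.Surjective (Fin.cast hlen) := (finCongr hlen).surjective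
        rw [hbij.range_comp]
        ext z
        constructor
        · rintro ⟨i, rfl⟩
          refine Fin.addCases (fun j => Or.inl ⟨j, by simp⟩) (fun j => Or.inr ⟨j, by simp⟩) i
        · rintro (⟨j, rfl⟩ | ⟨j, rfl⟩)
          · exact ⟨Fin.castAdd _ j, by simp⟩
          · exact ⟨Fin.natAdd _ j, by simp⟩
      refine ⟨x', fun p hp hs => ?_⟩
      set N' := Submodule.span R (Set.range x') ⊔ LinearMap.range δ with hN'
      have hle : N ≤ N' := sup_le_sup_right (Submodule.span_mono (by rw [hx']; exact
        Set.subset_union_left)) _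
      have hps : p ∈ Module.support R (E₂ ⧸ N) :=
        Module.support_subset_of_surjective (Submodule.mapQ N N' LinearMap.id hle)
          (fun z => by
            obtain ⟨z, rfl⟩ := Submodule.Quotient.mk_surjective _ z
            exact ⟨Submodule.Quotient.mk z, rfl⟩) hs
      have hKp : K ≤ p.asIdeal := by
        refine p.isPrime.radical_le_iff.2 (sup_le ?_ ?_)
        · have : p ∈ PrimeSpectrum.zeroLocus (J : Set R) := by rw [← hJ]; exact hp
          exact this
        · rw [Module.support_eq_zeroLocus] at hps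
          exact hps
      have htop : (⊤ : Submodule R (E₂ ⧸ N')) ≤ K • ⊤ := by
        rintro z -
        obtain ⟨z, rfl⟩ := N'.mkQ_surjective z
        have hz : z ∈ Submodule.span R (Set.range y) ⊔ LinearMap.range δ ⊔ K • ⊤ := by
          rw [hy]; trivial
        obtain ⟨a, ha, b, hb, rfl⟩ := Submodule.mem_sup.1 hz
        have ha' : N'.mkQ a = 0 := by
          refine (Submodule.Quotient.mk_eq_zero _).2 ?_
          have hle' : Submodule.span R (Set.range y) ⊔ LinearMap.range δ ≤ N' :=
            sup_le_sup_right (Submodule.span_mono (by rw [hx']; exact Set.subset_union_right)) _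
          exact hle' ha
        rw [map_add, ha', zero_add]
        have := Submodule.mem_map_of_mem (f := N'.mkQ) hb
        rw [Submodule.map_smul''] at this
        exact Submodule.smul_mono le_rfl le_top this
      obtain ⟨r, hr1, hr⟩ := Submodule.exists_sub_one_mem_and_smul_eq_zero_of_fg_of_le_smul K
        (⊤ : Submodule R (E₂ ⧸ N')) Module.Finite.fg_top htop
      have hrp : r ∈ p.asIdeal := by
        rw [Module.support_eq_zeroLocus] at hs
        exact hs (Module.mem_annihilator.2 fun z => hr z trivial)
      exact p.isPrime.ne_top ((Ideal.eq_top_iff_one _).2 (by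
        simpa using p.asIdeal.sub_mem hrp (hKp hr1)))
  obtain ⟨x, hx⟩ := key (Fin.last m)
  refine ⟨x, ?_⟩
  rw [← Submodule.Quotient.subsingleton_iff, ← Module.support_eq_empty_iff (R := R),
    Set.eq_empty_iff_forall_notMem]
  intro p
  exact hx p (by rw [hZm]; trivial)

theorem faithfullyFlat_of_isNisCoverLen {m : ℕ}
    (hc : IsNisCoverLen (Spec.map (CommRingCat.ofHom (algebraMap R B))) m) :
    Module.FaithfullyFlat R B := by
  classical
  haveI := hc.etale
  haveI : Flat (Spec.map (CommRingCat.ofHom (algebraMap R B))) := inferInstance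
  haveI : Module.Flat R B := by
    have := (HasRingHomProperty.Spec_iff (P := @Flat)).1
      (inferInstance : Flat (Spec.map (CommRingCat.ofHom (algebraMap R B))))
    exact RingHom.flat_algebraMap_iff.1 this
  refine Module.FaithfullyFlat.of_comap_surjective fun p => ?_
  obtain ⟨Z, hZ0, hZm, hZmono, hZc, hsect⟩ := hc.flag
  have key : ∀ k : Fin (m + 1), p ∈ Z k →
      ∃ q : PrimeSpectrum B, PrimeSpectrum.comap (algebraMap R B) q = p := by
    intro k
    induction k using Fin.induction with
    | zero => intro h; rw [hZ0] at h; exact h.elim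
    | succ k ih =>
      intro h
      by_cases h' : p ∈ Z k.castSucc
      · exact ih h'
      obtain ⟨T, g, s, hg, hrange, hs⟩ := hsect k
      have hp : p ∈ Set.range (fun t : T => g t) := by rw [hrange]; exact ⟨h, h'⟩
      obtain ⟨t, ht⟩ := hp
      refine ⟨s t, ?_⟩
      rw [← ht, ← hs]
      rfl
  exact key (Fin.last m) (by rw [hZm]; trivial)

end H9Size
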